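import Mathlib

/-!
# The lattice computation behind boundary forms
-/

universe u

namespace Groth.Agent.BunLattice

variable {r : ℕ}

/-- An integral vector is its content times a member of a basis. -/
theorem exists_basis (d : Fin (r + 1) → ℤ) :
    ∃ B : Module.Basis (Fin (r + 1)) ℤ (Fin (r + 1) → ℤ), d = (Finset.univ.gcd d) • B 0 := by
  classical
  by_cases h0 : Finset.univ.gcd d = 0
  · refine ⟨Pi.basisFun ℤ _, ?_⟩
    rw [h0, zero_smul]
    exact funext fun i => Finset.gcd_eq_zero_iff.1 h0 i (Finset.mem_univ i)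
  obtain ⟨v, hv, hv1⟩ : ∃ v : Fin (r + 1) → ℤ, d = Finset.univ.gcd d • v ∧ Finset.univ.gcd v = 1 := by
    obtain ⟨v, hv, hv1⟩ := Finset.extract_gcd d (s := Finset.univ) Finset.univ_nonempty
    exact ⟨v, funext fun i => hv i (Finset.mem_univ i), hv1⟩
  obtain ⟨c, hc⟩ : ∃ c : Fin (r + 1) → ℤ, ∑ i, c i * v i = 1 := by
    have hmem : (1 : ℤ) ∈ Ideal.span (Set.range v) := by
      obtain ⟨a, ha⟩ := (IsPrincipalIdealRing.principal (Ideal.span (Set.range v))).principal
      have hdiv : ∀ i, a ∣ v i := fun i => Ideal.mem_span_singleton.1 (by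
        rw [Ideal.span, ← ha]; exact Submodule.subset_span ⟨i, rfl⟩)
      have : IsUnit a := isUnit_of_dvd_one (hv1 ▸ Finset.dvd_gcd fun i _ => hdiv i)
      rw [ha]
      obtain ⟨w, hw⟩ := this.exists_left_inv
      exact Submodule.mem_span_singleton.2 ⟨w, by simpa using hw⟩
    obtain ⟨c, hc⟩ := (Submodule.mem_span_range_iff_exists_fun ℤ).1 hmem
    exact ⟨c, by simpa using hc⟩
  let ℓ : (Fin (r + 1) → ℤ) →ₗ[ℤ] ℤ := ∑ i, c i • LinearMap.proj i
  have hℓ : ℓ v = 1 := by simpa [ℓ, LinearMap.sum_apply] using hc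
  let N := LinearMap.ker ℓ
  obtain ⟨n, b⟩ := Submodule.basisOfPid (Pi.basisFun ℤ (Fin (r + 1))) N
  have hli : ∀ (a : ℤ), ∀ x ∈ N, a • v + x = 0 → a = 0 := fun a x hx h => by
    have := congrArg ℓ h
    rwa [map_add, LinearMap.map_smul, hℓ, LinearMap.mem_ker.1 hx, map_zero, add_zero, smul_eq_mul, mul_one] at this
  have hsp : ∀ z, ∃ a : ℤ, z + a • v ∈ N := fun z => ⟨-ℓ z, by rw [LinearMap.mem_ker, map_add, LinearMap.map_smul, hℓ, smul_eq_mul, mul_one, add_neg_cancel]⟩
  let B := Module.Basis.mkFinCons v b hli hsp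
  have hn : n = r := by
    have := Fintype.card_congr (B.indexEquiv (Pi.basisFun ℤ (Fin (r + 1))))
    simpa using this
  subst hn
  refine ⟨B, ?_⟩
  rw [show B 0 = v by simp [B]]
  exact hv

/-- Homomorphisms out of a lattice are their values on a basis. -/
noncomputable def homEquiv (B : Module.Basis (Fin (r + 1)) ℤ (Fin (r + 1) → ℤ)) (δ : ℕ) :
    ((Fin (r + 1) → ℤ) →+ ZMod δ) ≃+ ZMod δ × (Fin r → ZMod δ) where
  toFun φ := (φ (B 0), fun i => φ (B i.succ))
  invFun p := (B.constr ℤ (Fin.cons p.1 p.2 : Fin (r + 1) → ZMod δ)).toAddMonoidHom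
  left_inv φ := by
    refine AddMonoidHom.ext fun x => ?_
    show B.constr ℤ _ x = φ x
    rw [B.ext (f₁ := B.constr ℤ _) (f₂ := φ.toIntLinearMap) fun i => by
      rw [Module.Basis.constr_basis]
      induction i using Fin.cases with
      | zero => simp
      | succ i => simp]
    rfl
  right_inv p := by
    refine Prod.ext ?_ (funext fun i => ?_)
    · show B.constr ℤ _ (B 0) = _
      rw [Module.Basis.constr_basis, Fin.cons_zero]
    · show B.constr ℤ _ (B i.succ) = _
      rw [Module.Basis.constr_basis, Fin.cons_succ]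
  map_add' φ ψ := rfl

variable (δ : ℕ) (g : ℤ) (d : Fin (r + 1) → ℤ)

/-- The boundary forms. -/
def forms : Set ((Fin (r + 1) → ℤ) →+ ZMod δ) :=
  {φ | ∃ b : LinearMap.BilinForm ℤ (Fin (r + 1) → ℤ), b.IsSymm ∧
    ∀ x, φ x = ((b d x + (1 - g) * b x x : ℤ) : ZMod δ)}

/-- Their values on a basis adapted to `d`. -/
noncomputable def target : AddSubgroup (ZMod δ × (Fin r → ZMod δ)) :=
  (AddSubgroup.zmultiples ((Finset.univ.gcd d + 1 - g : ℤ) : ZMod δ)).prod
    (AddSubgroup.pi Set.univ fun _ =>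
      AddSubgroup.zmultiples (((Int.gcd (g - 1) (Finset.univ.gcd d) : ℕ) : ℤ) : ZMod δ))

theorem closure_eq (hδ : (δ : ℤ) ∣ 2 * (g - 1)) (B : Module.Basis (Fin (r + 1)) ℤ (Fin (r + 1) → ℤ))
    (hB : d = (Finset.univ.gcd d) • B 0) :
    AddSubgroup.closure (forms δ g d) = (target δ g d).comap (homEquiv B δ).toAddMonoidHom := by
  classical
  set D := Finset.univ.gcd d
  set G : ℤ := ((Int.gcd (g - 1) D : ℕ) : ℤ) with hG
  apply le_antisymm
  · rw [AddSubgroup.closure_le]
    rintro φ ⟨b, -, hφ⟩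
    refine ⟨⟨b (B 0) (B 0), ?_⟩, fun i _ => ?_⟩
    · show b (B 0) (B 0) • ((D + 1 - g : ℤ) : ZMod δ) = φ (B 0)
      rw [zsmul_eq_mul, ← Int.cast_mul, hφ, hB, map_smul, LinearMap.smul_apply, smul_eq_mul]
      congr 1; ring
    · obtain ⟨a, ha⟩ : G ∣ g - 1 := Int.gcd_dvd_left _ _
      obtain ⟨c, hc⟩ : G ∣ D := Int.gcd_dvd_right _ _
      refine ⟨c * b (B 0) (B i.succ) - a * b (B i.succ) (B i.succ), ?_⟩
      show (c * b (B 0) (B i.succ) - a * b (B i.succ) (B i.succ)) • (G : ZMod δ) = φ (B i.succ)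
      rw [zsmul_eq_mul, ← Int.cast_mul, hφ, hB, map_smul, LinearMap.smul_apply, smul_eq_mul]
      congr 1
      linear_combination -(b (B 0) (B i.succ)) * hc + (b (B i.succ) (B i.succ)) * ha
  · rintro φ ⟨⟨s, hs⟩, hi⟩
    have hi' : ∀ i : Fin r, ∃ t : ℤ, t • (G : ZMod δ) = φ (B i.succ) := fun i => hi i trivial
    choose t ht using hi'
    let x := Int.gcdA (g - 1) D
    let y := Int.gcdB (g - 1) D
    have hxy : G = (g - 1) * x + D * y := Int.gcd_eq_gcd_ab _ _
    let M : Matrix (Fin (r + 1)) (Fin (r + 1)) ℤ :=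
      Matrix.of (Fin.cons (Fin.cons s fun j => t j * y)
        fun i => Fin.cons (t i * y) fun j => if i = j then -(t i * x) else 0)
    let b := Matrix.toBilin B M
    have hb : ∀ i j, b (B i) (B j) = M i j := fun i j => by
      have h := congrFun (congrFun (BilinForm.toMatrix_toBilin B M) i) j
      rwa [BilinForm.toMatrix_apply] at h
    have hsymm : ∀ x y, b x y = b y x := by
      have : b = LinearMap.flip b := LinearMap.ext_basis B B fun i j => by
        show b (B i) (B j) = b (B j) (B i)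
        rw [hb, hb]
        induction i using Fin.cases with
        | zero => induction j using Fin.cases <;> simp [M]
        | succ i =>
          induction j using Fin.cases with
          | zero => simp [M]
          | succ j => by_cases h : i = j <;> simp [M, h, eq_comm]
      exact fun x y => LinearMap.congr_fun₂ this x y
    let ψ : (Fin (r + 1) → ℤ) →+ ZMod δ :=
      AddMonoidHom.mk' (fun z => ((b d z + (1 - g) * b z z : ℤ) : ZMod δ)) fun z w => by
        have hz : ((2 * (g - 1) * b z w : ℤ) : ZMod δ) = 0 :=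
          (ZMod.intCast_zmod_eq_zero_iff_dvd _ _).2 (hδ.mul_right _)
        rw [← sub_eq_zero, ← hz, ← Int.cast_add, ← Int.cast_sub, ← sub_eq_zero, ← Int.cast_sub]
        rw [show (b d (z + w) + (1 - g) * b (z + w) (z + w)) -
            (b d z + (1 - g) * b z z + (b d w + (1 - g) * b w w)) - 2 * (g - 1) * b z w =
            -(4 * (g - 1) * b z w) by
          simp only [map_add, LinearMap.add_apply, hsymm w z]; ring]
        exact (ZMod.intCast_zmod_eq_zero_iff_dvd _ _).2 (dvd_neg.2 ((hδ.trans ⟨2, by ring⟩).mul_right _))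
    have hφψ : φ = ψ := by
      apply (homEquiv B δ).injective
      refine Prod.ext ?_ (funext fun i => ?_)
      · show φ (B 0) = ((b d (B 0) + (1 - g) * b (B 0) (B 0) : ℤ) : ZMod δ)
        rw [show φ (B 0) = s • ((D + 1 - g : ℤ) : ZMod δ) from hs.symm, hB, map_smul, LinearMap.smul_apply, smul_eq_mul, hb]
        rw [zsmul_eq_mul, ← Int.cast_mul]
        congr 1
        simp [M]; ring
      · show φ (B i.succ) = ((b d (B i.succ) + (1 - g) * b (B i.succ) (B i.succ) : ℤ) : ZMod δ)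
        rw [← ht i, hB, map_smul, LinearMap.smul_apply, smul_eq_mul, hb, hb]
        rw [zsmul_eq_mul, ← Int.cast_mul]
        congr 1
        simp [M]
        linear_combination (t i) * hxy
    exact AddSubgroup.subset_closure ⟨b, ⟨hsymm⟩, fun z => by rw [hφψ]; rfl⟩

theorem castHom_ker (a : ℤ) :
    (ZMod.castHom (Int.natCast_dvd_natCast.1 (Int.gcd_dvd_left (δ : ℤ) a)) (ZMod (Int.gcd δ a))).toAddMonoidHom.ker =
      AddSubgroup.zmultiples (a : ZMod δ) := by
  ext y
  obtain ⟨n, rfl⟩ := ZMod.intCast_surjective y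
  rw [AddMonoidHom.mem_ker, RingHom.toAddMonoidHom_eq_coe, AddMonoidHom.coe_coe, map_intCast,
    ZMod.intCast_zmod_eq_zero_iff_dvd, AddSubgroup.mem_zmultiples_iff]
  constructor
  · rintro ⟨q, rfl⟩
    refine ⟨Int.gcdB δ a * q, ?_⟩
    rw [zsmul_eq_mul, ← Int.cast_mul, ← sub_eq_zero, ← Int.cast_sub, ZMod.intCast_zmod_eq_zero_iff_dvd]
    exact ⟨-(Int.gcdA δ a * q), by linear_combination (-q) * Int.gcd_eq_gcd_ab (δ : ℤ) a⟩
  · rintro ⟨k, hk⟩
    rw [zsmul_eq_mul, ← Int.cast_mul, ← sub_eq_zero, ← Int.cast_sub, ZMod.intCast_zmod_eq_zero_iff_dvd] at hk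
    have h1 := ((Int.gcd_dvd_left (δ : ℤ) a).trans hk)
    have h2 := (Int.gcd_dvd_right (δ : ℤ) a).mul_left k
    simpa using h2.sub h1

theorem quotient_equiv (hδ : (δ : ℤ) ∣ 2 * (g - 1)) :
    Nonempty ((((Fin (r + 1) → ℤ) →+ ZMod δ) ⧸ AddSubgroup.closure (forms δ g d)) ≃+
      (ZMod (Int.gcd δ (Finset.univ.gcd d + 1 - g)) ×
        (Fin r → ZMod (Int.gcd δ (Int.gcd (g - 1) (Finset.univ.gcd d)))))) := by
  obtain ⟨B, hB⟩ := exists_basis d
  set a₀ := Finset.univ.gcd d + 1 - g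
  set a₁ : ℤ := ((Int.gcd (g - 1) (Finset.univ.gcd d) : ℕ) : ℤ)
  let π₀ : ZMod δ →+ ZMod (Int.gcd δ a₀) :=
    (ZMod.castHom (Int.natCast_dvd_natCast.1 (Int.gcd_dvd_left (δ : ℤ) a₀)) (ZMod (Int.gcd δ a₀))).toAddMonoidHom
  let π₁ : ZMod δ →+ ZMod (Int.gcd δ a₁) :=
    (ZMod.castHom (Int.natCast_dvd_natCast.1 (Int.gcd_dvd_left (δ : ℤ) a₁)) (ZMod (Int.gcd δ a₁))).toAddMonoidHom
  let Φ := (π₀.prodMap (AddMonoidHom.compLeft π₁ (Fin r))).comp (homEquiv B δ).toAddMonoidHom
  have hsurj : Function.Surjective Φ := by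
    rintro ⟨p, q⟩
    obtain ⟨p', hp⟩ : ∃ p', π₀ p' = p :=
      ZMod.castHom_surjective (Int.natCast_dvd_natCast.1 (Int.gcd_dvd_left (δ : ℤ) a₀)) p
    choose q' hq using fun i => (ZMod.castHom_surjective (Int.natCast_dvd_natCast.1 (Int.gcd_dvd_left (δ : ℤ) a₁))) (q i)
    obtain ⟨φ, hφ⟩ := (homEquiv B δ).surjective (p', q')
    exact ⟨φ, Prod.ext (by show π₀ ((homEquiv B δ φ).1) = p; rw [hφ]; exact hp)
      (funext fun i => by show π₁ ((homEquiv B δ φ).2 i) = q i; rw [hφ]; exact hq i)⟩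
  have hker : Φ.ker = AddSubgroup.closure (forms δ g d) := by
    rw [closure_eq δ g d hδ B hB]
    ext φ
    simp only [Φ, AddMonoidHom.mem_ker, AddSubgroup.mem_comap, target, AddSubgroup.mem_prod, AddSubgroup.mem_pi,
      Set.mem_univ, forall_true_left, AddMonoidHom.comp_apply, AddMonoidHom.coe_prodMap, Prod.map, Prod.mk_eq_zero]
    rw [← castHom_ker δ a₀, ← castHom_ker δ a₁]
    simp only [AddMonoidHom.mem_ker, funext_iff, π₀, π₁]
    exact Iff.rfl
  exact ⟨(QuotientAddGroup.quotientAddEquivOfEq hker.symm).trans (QuotientAddGroup.quotientKerEquivOfSurjective Φ hsurj)⟩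

theorem subgroup_equiv (hδ : (δ : ℤ) ∣ 2 * (g - 1)) (hδ0 : 0 < δ) :
    Nonempty (AddSubgroup.closure (forms δ g d) ≃+
      (ZMod (δ / Int.gcd δ (Finset.univ.gcd d + 1 - g)) ×
        (Fin r → ZMod (δ / Int.gcd δ (Int.gcd (g - 1) (Finset.univ.gcd d)))))) := by
  obtain ⟨B, hB⟩ := exists_basis d
  haveI : NeZero δ := ⟨hδ0.ne'⟩
  have cyc : ∀ a : ℤ, AddSubgroup.zmultiples (a : ZMod δ) ≃+ ZMod (δ / Int.gcd δ a) := fun a => by
    refine addEquivOfAddCyclicCardEq ?_
    have hq : Nat.card (ZMod δ ⧸ AddSubgroup.zmultiples (a : ZMod δ)) = Int.gcd δ a := by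
      rw [← castHom_ker δ a]
      exact (Nat.card_congr (QuotientAddGroup.quotientKerEquivOfSurjective _
        (ZMod.castHom_surjective (Int.natCast_dvd_natCast.1 (Int.gcd_dvd_left (δ : ℤ) a)))).toEquiv).trans (Nat.card_zmod _)
    have h := AddSubgroup.card_eq_card_quotient_mul_card_addSubgroup (AddSubgroup.zmultiples (a : ZMod δ))
    rw [hq, Nat.card_zmod] at h
    rw [Nat.card_zmod]
    exact (Nat.div_eq_of_eq_mul_right (Nat.pos_of_ne_zero fun e => hδ0.ne' (by rw [h, e, zero_mul])) h).symm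
  let e1 : AddSubgroup.closure (forms δ g d) ≃+ target (r := r) δ g d :=
    (AddEquiv.addSubgroupCongr (closure_eq δ g d hδ B hB)).trans
      { toFun := fun x => ⟨homEquiv B δ x.1, x.2⟩
        invFun := fun y => ⟨(homEquiv B δ).symm y.1, by
          show homEquiv B δ ((homEquiv B δ).symm y.1) ∈ target δ g d
          rw [AddEquiv.apply_symm_apply]; exact y.2⟩
        left_inv := fun x => Subtype.ext ((homEquiv B δ).symm_apply_apply _)
        right_inv := fun y => Subtype.ext ((homEquiv B δ).apply_symm_apply _)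
        map_add' := fun x y => Subtype.ext (map_add (homEquiv B δ) _ _) }
  refine ⟨e1.trans (AddEquiv.trans (AddSubgroup.prodEquiv _ _) (AddEquiv.prodCongr (cyc _) ?_))⟩
  exact AddEquiv.trans
    { toFun := fun x i => ⟨x.1 i, x.2 i trivial⟩
      invFun := fun y => ⟨fun i => y i, fun i _ => (y i).2⟩
      left_inv := fun x => rfl
      right_inv := fun y => rfl
      map_add' := fun x y => rfl }
    (AddEquiv.piCongrRight fun _ => cyc _)

end Groth.Agent.BunLattice
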